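import Groth.Agent.AcycFin.Embedding
import Groth.Agent.AcycFin.Compare
import Groth.Agent.AcycFin.ConstLocal
import Groth.Agent.AcycFin.HFColim
import Groth.Agent.BcQCalc.CompPullback
import Groth.Agent.EtAcycLib.UnitRpush
import Groth.Agent.S0093
import Groth.Agent.S0655
import Groth.Agent.S3054
import Groth.Agent.S8525

/-!
# Effaceability on closed subschemes of affine schemes
-/

set_option autoImplicit false
set_option linter.style.haveILetI false
set_option linter.unusedSectionVars false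
set_option backward.isDefEq.respectTransparency false
set_option backward.isDefEq.respectTransparency.types false

universe u

open CategoryTheory CategoryTheory.Limits AlgebraicGeometry Opposite Abelian

namespace Groth.Agent.GabberAffine

attribute [local instance] EtFound.pull_preservesFiniteLimits

theorem isLTorsion_of_iso {X : Scheme.{u}} {F G : EtCoh.Ab X} (e : F ≅ G) {L : Set ℕ}
    (hF : EtAcyc.IsLTorsion L F) : EtAcyc.IsLTorsion L G := S8536.isLTorsion_of_epi L e.hom hF

theorem isLTorsion_of_sum {X : Scheme.{u}} {T : EtCoh.Ab X} {κ : Type*} [Fintype κ] (G : κ → EtCoh.Ab X)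
    (q : ∀ k, T ⟶ G k) (i : ∀ k, G k ⟶ T) (h : ∑ k, q k ≫ i k = 𝟙 T) {L : Set ℕ}
    (hG : ∀ k, EtAcyc.IsLTorsion L (G k)) : EtAcyc.IsLTorsion L T := by
  classical
  rw [S8525.result]
  intro Ω _ _ ξ t
  have hG' := fun k => (S8525.result L (G k)).1 (hG k) Ω ξ ((EtCoh.stalk ξ).map (q k) t)
  choose m hm hmt using hG'
  refine ⟨∏ k, m k, ⟨Finset.prod_pos fun k _ => (hm k).1, fun p hp hpd => ?_⟩, ?_⟩
  · obtain ⟨k, -, hk⟩ := hp.prime.exists_mem_finset_dvd hpd
    exact (hm k).2 p hp hk
  · haveI : (EtCoh.stalk ξ).Additive := Functor.additive_of_preserves_binary_products _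
    have ht : t = ∑ k, (EtCoh.stalk ξ).map (i k) ((EtCoh.stalk ξ).map (q k) t) := by
      let ev : ((EtCoh.stalk ξ).obj T ⟶ (EtCoh.stalk ξ).obj T) →+ (EtCoh.stalk ξ).obj T :=
        AddMonoidHom.mk' (fun φ => φ.hom t) fun _ _ => rfl
      refine (congrArg ev (CategoryTheory.Functor.map_id (EtCoh.stalk ξ) T)).symm.trans ?_
      rw [← h, Functor.map_sum, map_sum]
      exact Finset.sum_congr rfl fun k _ => congrArg ev (Functor.map_comp _ _ _)
    rw [ht, Finset.smul_sum]
    refine Finset.sum_eq_zero fun k _ => ?_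
    obtain ⟨c, hc⟩ : m k ∣ ∏ k, m k := Finset.dvd_prod_of_mem m (Finset.mem_univ k)
    rw [← map_nsmul, hc, mul_comm, mul_nsmul', hmt, nsmul_zero, map_zero]

theorem biproduct_total {X : Scheme.{u}} {κ : Type u} [Fintype κ] (G : κ → EtCoh.Ab X) :
    ∑ k, biproduct.π G k ≫ biproduct.ι G k = 𝟙 (⨁ G) := by
  classical
  refine biproduct.hom_ext _ _ fun j => ?_
  simp [Preadditive.sum_comp, biproduct.ι_π, comp_dite]

/-- Vanishing moves down along integral morphisms. -/
theorem subsingleton_pull_push {A V W A' : Scheme.{u}} (π : A ⟶ V) [IsIntegralHom π] (g : W ⟶ V) (π₀ : A' ⟶ W)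
    (g' : A' ⟶ A) (c : IsPullback g' π₀ π g) (G : EtCoh.Ab A) (q : ℕ)
    (h : Subsingleton (EtCoh.H A' ((EtCoh.pull g').obj G) q)) :
    Subsingleton (EtCoh.H W ((EtCoh.pull g).obj ((EtCoh.push π).obj G)) q) := by
  haveI : IsIntegralHom π₀ := MorphismProperty.of_isPullback c ‹IsIntegralHom π›
  haveI : IsIso (EtCoh.baseChange0 π g π₀ g' c.w G) := S0655.result π g π₀ g' c G
  haveI := h
  have hb := EtAcycLib.UnitRpush.HofPush_bijective π₀ q ((EtCoh.pull g').obj G)
    fun j _ => S3054.result π₀ _ (j + 1) (Nat.succ_pos j)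
  exact (hb.1.comp (EtAcycLib.bijective_comp_mk₀ (asIso (EtCoh.baseChange0 π g π₀ g' c.w G))).1).subsingleton

/-- A finite constant sheaf on an affine scheme has an acyclic integral embedding. -/
theorem exists_acyclic_embedding (Y : Scheme.{u}) [IsAffine Y] (M : Type) [AddCommGroup M] [Finite M] :
    ∃ (T : EtCoh.Ab Y) (φ : EtCoh.const Y M ⟶ T), Mono φ ∧ EtAcyc.IsLTorsion (Set.univ : Set ℕ) T ∧
      ∀ (Z : Scheme.{u}) (j : Z ⟶ Y) [IsClosedImmersion j] (q : ℕ), 1 ≤ q →
        Subsingleton (EtCoh.H Z ((EtCoh.pull j).obj T) q) := by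
  obtain ⟨X', p, hp, hps, hvan⟩ := S0093.result Y
  haveI := hp
  haveI := hps
  let C := (EtCoh.pull p).obj (EtCoh.const Y M)
  have hconst : EtAcyc.IsLTorsion (Set.univ : Set ℕ) (EtCoh.const X' M) :=
    AcycFin.isLTorsion_const_of_primesIn X' _ fun m => ⟨Nat.card M, ⟨Nat.card_pos, fun _ _ _ => Set.mem_univ _⟩, by
      have : Fintype M := Fintype.ofFinite M
      exact ULift.ext _ _ card_nsmul_eq_zero'⟩
  have hC : EtAcyc.IsLTorsion (Set.univ : Set ℕ) C := isLTorsion_of_iso (EtCore.pullConst p M).symm hconst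
  refine ⟨(EtCoh.push p).obj C, (EtCoh.pullPushAdj p).unit.app (EtCoh.const Y M), AcycFin.mono_unit p _,
    BcQCalc.isLTorsion_push p Set.univ hC, fun Z j _ q hq => ?_⟩
  refine subsingleton_pull_push p j (pullback.snd p j) (pullback.fst p j) (IsPullback.of_hasPullback p j) C q ?_
  haveI := hvan (pullback p j) (pullback.fst p j) inferInstance M inferInstance inferInstance q hq
  exact (EtAcycLib.bijective_comp_mk₀ ((EtCoh.pull (pullback.fst p j)).mapIso (EtCore.pullConst p M) ≪≫
    EtCore.pullConst (pullback.fst p j) M)).1.subsingleton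

/-- Constructible sheaves on affine schemes embed into torsion sheaves acyclic on closed subschemes. -/
theorem exists_acyclic_of_constructible {X : Scheme.{u}} [IsAffine X] (F : EtCoh.Ab X) (hF : EtPBC.IsConstructible F)
    {Z : Scheme.{u}} (g : Z ⟶ X) [IsClosedImmersion g] :
    ∃ (T : EtCoh.Ab X) (φ : F ⟶ T), Mono φ ∧ EtAcyc.IsLTorsion (Set.univ : Set ℕ) T ∧
      ∀ q : ℕ, 1 ≤ q → ∀ x : EtCoh.H Z ((EtCoh.pull g).obj F) q,
        x.comp (Ext.mk₀ ((EtCoh.pull g).map φ)) (add_zero q) = 0 := by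
  classical
  obtain ⟨N, hN, hN0⟩ := EtFound.exists_killedBy X hF
  obtain ⟨κ, hκ, Y, π, hπ, M, iM, hM, hkill, a, ha⟩ :=
    AcycFin.exists_embedding X F hF N ((EtFound.killedBy_iff_nsmul N F).2 hN0)
  haveI := hπ
  haveI : ∀ k, IsAffine (Y k) := fun k => isAffine_of_isAffineHom (π k)
  letI := iM
  haveI := hM
  choose T φ hφ hT hvan using fun k => exists_acyclic_embedding (Y k) (M k)
  haveI := Fintype.ofFinite κ
  let G := fun k => (EtCoh.push (π k)).obj (T k)
  let b : F ⟶ ⨁ G := biproduct.lift fun k => a k ≫ (EtCoh.push (π k)).map (φ k)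
  refine ⟨⨁ G, b, ?_, ?_, fun q hq x => ?_⟩
  · refine Preadditive.mono_of_cancel_zero b fun {W} t ht => ha W t fun k => ?_
    haveI : (EtCoh.push (π k)).IsRightAdjoint := (EtCoh.pullPushAdj (π k)).isRightAdjoint
    haveI := hφ k
    rw [← cancel_mono ((EtCoh.push (π k)).map (φ k)), Category.assoc, zero_comp]
    have := congrArg (· ≫ biproduct.π G k) ht
    simpa [b] using this
  · exact isLTorsion_of_sum G (biproduct.π G) (biproduct.ι G) (biproduct_total G) fun k =>
      BcQCalc.isLTorsion_push (π k) Set.univ (hT k)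
  · haveI : (EtCoh.pull g).Additive := EtCore.pull_additive g
    have hs : ∀ k, Subsingleton (EtCoh.H Z ((EtCoh.pull g).obj (G k)) q) := fun k =>
      subsingleton_pull_push (π k) g (pullback.snd (π k) g) (pullback.fst (π k) g) (IsPullback.of_hasPullback (π k) g)
        (T k) q (hvan k _ (pullback.fst (π k) g) q hq)
    rw [← Category.comp_id b, ← biproduct_total G, Preadditive.comp_sum, Functor.map_sum, Ext.mk₀_sum, Ext.comp_sum]
    refine Finset.sum_eq_zero fun k _ => ?_
    rw [← Category.assoc, Functor.map_comp, ← Ext.mk₀_comp_mk₀, ← Ext.comp_assoc_of_third_deg_zero]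
    rw [(hs k).allEq (x.comp (Ext.mk₀ ((EtCoh.pull g).map (b ≫ biproduct.π G k))) (add_zero q)) 0, Ext.zero_comp]

/-- A class on a closed subscheme of an affine scheme dies in some larger torsion sheaf. -/
theorem exists_kill {X : Scheme.{u}} [IsAffine X] {Z : Scheme.{u}} (g : Z ⟶ X) [IsClosedImmersion g]
    (F : EtCoh.Ab X) (hF : EtCoh.IsTorsion F) (q : ℕ) (hq : 1 ≤ q) (ξ : EtCoh.H Z ((EtCoh.pull g).obj F) q) :
    ∃ (F' : EtCoh.Ab X) (φ : F ⟶ F'), Mono φ ∧ EtAcyc.IsLTorsion (Set.univ : Set ℕ) F' ∧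
      ξ.comp (Ext.mk₀ ((EtCoh.pull g).map φ)) (add_zero q) = 0 := by
  haveI : (EtCoh.pull g).IsLeftAdjoint := (EtCoh.pullPushAdj g).isLeftAdjoint
  haveI : CompactSpace Z := QuasiCompact.compactSpace_of_compactSpace g
  haveI : QuasiSeparatedSpace Z := quasiSeparatedSpace_of_quasiSeparated g
  have hFL : EtAcyc.IsLTorsion (Set.univ : Set ℕ) F := fun U s x => by
    obtain ⟨V, j, hv, hs⟩ := hF U s x
    obtain ⟨m, hm, hms⟩ := isOfFinAddOrder_iff_nsmul_eq_zero.1 hs
    exact ⟨V, j, m, hv, ⟨hm, fun r _ _ => Set.mem_univ r⟩, hms⟩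
  have hc := EtFound.TorsionInd.isColimit F hF
  obtain ⟨k, z, hz⟩ := AcycFin.exists_stage Z q ((EtCoh.pull g).mapCocone (EtFound.TorsionInd.cocone F))
    (isColimitOfPreserves (EtCoh.pull g) hc) ξ
  obtain ⟨T, b, hb, hT, hkill⟩ :=
    exists_acyclic_of_constructible _ (EtFound.TorsionInd.isConstructible_D F k) g
  haveI := hb
  let a : (EtFound.TorsionInd.D F).obj k ⟶ F := (EtFound.TorsionInd.cocone F).ι.app k
  refine ⟨pushout b a, pushout.inr b a, inferInstance, ?_, ?_⟩
  · haveI : Epi (biprod.desc (pushout.inl b a) (pushout.inr b a)) := ⟨fun u v h => pushout.hom_ext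
      (by simpa using congrArg (biprod.inl ≫ ·) h) (by simpa using congrArg (biprod.inr ≫ ·) h)⟩
    refine S8536.isLTorsion_of_epi Set.univ (biprod.desc (pushout.inl b a) (pushout.inr b a)) ?_
    exact isLTorsion_of_sum (fun i : Bool => cond i T F)
      (fun | true => biprod.fst | false => biprod.snd) (fun | true => biprod.inl | false => biprod.inr)
      (by rw [Fintype.sum_bool]; exact biprod.total) (fun | true => hT | false => hFL)
  · rw [← hz]
    show (z.comp (Ext.mk₀ ((EtCoh.pull g).map a)) (add_zero q)).comp _ (add_zero q) = 0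
    rw [Ext.comp_assoc_of_third_deg_zero, Ext.mk₀_comp_mk₀, ← Functor.map_comp, ← pushout.condition,
      Functor.map_comp, ← Ext.mk₀_comp_mk₀, ← Ext.comp_assoc_of_third_deg_zero, hkill q hq z, Ext.zero_comp]

end Groth.Agent.GabberAffine
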