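import Groth.Agent.GabberAffine.Kill
import Groth.Agent.S0122

/-!
# Gabber's affine analogue of proper base change
-/

set_option autoImplicit false
set_option linter.style.haveILetI false
set_option linter.unusedSectionVars false
set_option backward.isDefEq.respectTransparency false
set_option backward.isDefEq.respectTransparency.types false

universe u

open CategoryTheory CategoryTheory.Limits AlgebraicGeometry Opposite Abelian

namespace Groth.Agent.GabberAffine

attribute [local instance] EtFound.pull_preservesFiniteLimits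

theorem isTorsion_of_univ {X : Scheme.{u}} {F : EtCoh.Ab X} (h : EtAcyc.IsLTorsion (Set.univ : Set ℕ) F) :
    EtCoh.IsTorsion F := fun U s x => by
  obtain ⟨V, j, m, hv, hm, hms⟩ := h U s x
  exact ⟨V, j, hv, isOfFinAddOrder_iff_nsmul_eq_zero.2 ⟨m, hm.1, hms⟩⟩

theorem isLTorsion_univ {X : Scheme.{u}} {F : EtCoh.Ab X} (h : EtCoh.IsTorsion F) :
    EtAcyc.IsLTorsion (Set.univ : Set ℕ) F := fun U s x => by
  obtain ⟨V, j, hv, hs⟩ := h U s x
  obtain ⟨m, hm, hms⟩ := isOfFinAddOrder_iff_nsmul_eq_zero.1 hs
  exact ⟨V, j, m, hv, ⟨hm, fun r _ _ => Set.mem_univ r⟩, hms⟩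

/-- Bijectivity in degree zero propagates to all degrees on affine schemes. -/
theorem bijective_Hpull {X Z : Scheme.{u}} [IsAffine X] (g : Z ⟶ X) [IsClosedImmersion g]
    (h0 : ∀ F : EtCoh.Ab X, EtCoh.IsTorsion F → Function.Bijective (EtCore.Hpull g F 0)) :
    ∀ (q : ℕ) (F : EtCoh.Ab X), EtCoh.IsTorsion F → Function.Bijective (EtCore.Hpull g F q) := by
  intro q
  induction q with
  | zero => exact h0
  | succ q ih =>
    intro F hF
    refine ⟨AcycFin.injective_succ g q (L := Set.univ) (fun G hG => (ih G (isTorsion_of_univ hG)).2)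
      (fun G hG => (ih G (isTorsion_of_univ hG)).1) F (isLTorsion_univ hF), fun ξ => ?_⟩
    obtain ⟨F', φ, hφ, hF', hξ⟩ := exists_kill g F hF (q + 1) (Nat.succ_pos q) ξ
    haveI := hφ
    let S : ShortComplex (EtCoh.Ab X) := ShortComplex.mk φ (cokernel.π φ) (cokernel.condition φ)
    have hS : S.ShortExact :=
      { exact := ShortComplex.exact_of_g_is_cokernel _ (cokernelIsCokernel φ)
        mono_f := inferInstanceAs (Mono φ)
        epi_g := inferInstanceAs (Epi (cokernel.π φ)) }
    haveI : Epi S.g := hS.epi_g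
    have hQ := isTorsion_of_univ (S8536.isLTorsion_of_epi Set.univ S.g hF')
    obtain ⟨η, hη⟩ := Ext.covariant_sequence_exact₁ _ (hS.map_of_exact (EtCoh.pull g)) ξ hξ (rfl : q + 1 = q + 1)
    obtain ⟨η', rfl⟩ := (ih S.X₃ hQ).2 η
    exact ⟨η'.comp hS.extClass rfl, (S8536.Hpull_comp_extClass g hS q η').trans hη⟩

/-- The unit map on cohomology is bijective if pullback is. -/
theorem bijective_map_unit {X Z : Scheme.{u}} (g : Z ⟶ X) [IsClosedImmersion g] (F : EtCoh.Ab X) (q : ℕ)
    (h : Function.Bijective (EtCore.Hpull g F q)) :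
    Function.Bijective (Sheaf.H.map ((EtCoh.pullPushAdj g).unit.app F) q) := by
  have hb := EtAcycLib.UnitRpush.HofPush_bijective g q ((EtCoh.pull g).obj F)
    fun j _ => S3054.result g _ (j + 1) (Nat.succ_pos j)
  refine (Function.Bijective.of_comp_iff' hb _).1 ?_
  have e : (EtLim.HofPush g ((EtCoh.pull g).obj F) q) ∘ (Sheaf.H.map ((EtCoh.pullPushAdj g).unit.app F) q) =
      EtCore.Hpull g F q := funext fun x =>
    ((EtAcycLib.UnitRpush.Hpull_eq_HofPush g F q x).trans (congrArg _ (Sheaf.H.map_apply _ x).symm)).symm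
  rw [e]
  exact h

theorem bij_congr {A B : Type*} {f g : A → B} (hf : Function.Bijective f) (e : ∀ x, g x = f x) :
    Function.Bijective g := (funext e : g = f).symm ▸ hf

/-- Pullback in degree zero from the unit on global sections. -/
theorem bijective_Hpull_zero_of_unit {X Z : Scheme.{u}} (g : Z ⟶ X) (F : EtCoh.Ab X)
    (h : Function.Bijective (((EtCoh.pullPushAdj g).unit.app F).hom.app (op (EtCoh.top X)))) :
    Function.Bijective (EtCore.Hpull g F 0) := by
  have hu : Function.Bijective (Sheaf.H.map ((EtCoh.pullPushAdj g).unit.app F) 0) := by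
    refine (Function.Bijective.of_comp_iff' (Sheaf.H.equiv₀ _ (EtCore.topIsTerminal X)).bijective _).1 ?_
    exact bij_congr (h.comp (Sheaf.H.equiv₀ F (EtCore.topIsTerminal X)).bijective)
      fun x => (Sheaf.H.equiv₀_naturality (EtCore.topIsTerminal X) _ x).symm
  refine bij_congr ((BcQCalc.HofPush_bijective_zero g _).comp hu) fun x => ?_
  exact (EtAcycLib.UnitRpush.Hpull_eq_HofPush g F 0 x).trans (congrArg _ (Sheaf.H.map_apply _ x).symm)

/-- The affine analogue of proper base change for a henselian pair. -/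
theorem bijective_henselian (A : Type u) [CommRing A] (I : Ideal A) [HenselianRing A I]
    (F : EtCoh.Ab (Spec (CommRingCat.of A))) (hF : EtCoh.IsTorsion F) (q : ℕ) :
    Function.Bijective
      (Sheaf.H.map ((EtCoh.pullPushAdj (Spec.map (CommRingCat.ofHom (Ideal.Quotient.mk I)))).unit.app F) q) := by
  haveI : IsClosedImmersion (Spec.map (CommRingCat.ofHom (Ideal.Quotient.mk I))) :=
    IsClosedImmersion.spec_of_surjective _ Ideal.Quotient.mk_surjective
  exact bijective_map_unit _ F q (bijective_Hpull _
    (fun G _ => bijective_Hpull_zero_of_unit _ G (S0122.result A I G)) q F hF)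

end Groth.Agent.GabberAffine
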